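/- Cech complexes which become contractible after an additive product preserving functor (thin base category). -/
import Mathlib

set_option autoImplicit false
set_option maxHeartbeats 800000
set_option backward.isDefEq.respectTransparency false
set_option backward.isDefEq.respectTransparency.types false
universe w v u v' u'

open CategoryTheory CategoryTheory.Limits Opposite AlgebraicTopology Simplicial

noncomputable section
namespace CechRes8

variable {C : Type u} [Category.{v} C] [Quiver.IsThin C] [HasFiniteProducts C]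
  {A : Type u'} [Category.{v'} A] [Preadditive A] [HasProducts.{w} A]
  (E : A ⥤ AddCommGrpCat.{w}) [E.Additive] [∀ β : Type w, PreservesLimitsOfShape (Discrete β) E]
  {ι : Type w} (U : ι → C) (P : Cᵒᵖ ⥤ A)

abbrev cos : CosimplicialObject A :=
  (FormalCoproduct.cosimplicialObjectFunctor (FormalCoproduct.mk _ U).cech).obj P

abbrev tm {n : ℕ} (J : Fin n → ι) : C := ∏ᶜ (U ∘ J)

abbrev fam (n : ℕ) (J : Fin (n + 1) → ι) : A := P.obj (op (tm U J))

abbrev cp {n : ℕ} (J : Fin (n + 1) → ι) : (cos U P).obj ⦋n⦌ ⟶ fam U P n J := Pi.π (fam U P n) J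

/-- component of an element. -/
abbrev comp {n : ℕ} (J : Fin (n + 1) → ι) (x : E.obj ((cos U P).obj ⦋n⦌)) : E.obj (fam U P n J) :=
  E.map (cp U P J) x

theorem comp_ext {n : ℕ} {x y : E.obj ((cos U P).obj ⦋n⦌)} (h : ∀ J, comp E U P J x = comp E U P J y) : x = y := by
  have hl := isLimitOfPreserves E (productIsProduct (fam U P n))
  exact Concrete.isLimit_ext _ hl x y fun j => h j.as

theorem exists_comp {n : ℕ} (g : ∀ J, E.obj (fam U P n J)) :
    ∃ x : E.obj ((cos U P).obj ⦋n⦌), ∀ J, comp E U P J x = g J := by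
  have hl := isLimitOfPreserves E (productIsProduct (fam U P n))
  let s : Cone (Discrete.functor (fam U P n) ⋙ E) := ⟨AddCommGrpCat.of (∀ J, E.obj (fam U P n J)),
    Discrete.natTrans fun j => AddCommGrpCat.ofHom (Pi.evalAddMonoidHom (fun J => E.obj (fam U P n J)) j.as)⟩
  exact ⟨hl.lift s g, fun J => ConcreteCategory.congr_hom (hl.fac s ⟨J⟩) g⟩

/-- restriction between terms. -/
abbrev res {m n : ℕ} {J : Fin m → ι} {K : Fin n → ι} (f : tm U J ⟶ tm U K) :
    E.obj (P.obj (op (tm U K))) ⟶ E.obj (P.obj (op (tm U J))) := E.map (P.map f.op)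

theorem res_res {m n k : ℕ} {J : Fin m → ι} {K : Fin n → ι} {L : Fin k → ι} (f : tm U J ⟶ tm U K)
    (g : tm U K ⟶ tm U L) (h : tm U J ⟶ tm U L) (x : E.obj (P.obj (op (tm U L)))) :
    res E U P f (res E U P g x) = res E U P h x := by
  rw [Subsingleton.elim h (f ≫ g)]
  simp only [res, op_comp, P.map_comp, E.map_comp, ConcreteCategory.comp_apply]

theorem res_self {m : ℕ} {J : Fin m → ι} (f : tm U J ⟶ tm U J) (x : E.obj (P.obj (op (tm U J)))) :
    res E U P f x = x := by
  rw [Subsingleton.elim f (𝟙 _)]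
  simp only [res, op_id, P.map_id, E.map_id, ConcreteCategory.id_apply]

theorem res_comp_congr {m n : ℕ} {J : Fin m → ι} {K K' : Fin (n + 1) → ι} (e : K = K')
    (f : tm U J ⟶ tm U K) (g : tm U J ⟶ tm U K') (x : E.obj ((cos U P).obj ⦋n⦌)) :
    res E U P f (comp E U P K x) = res E U P g (comp E U P K' x) := by
  subst e
  rw [Subsingleton.elim f g]

/-- face projection. -/
abbrev face {n : ℕ} (K : Fin (n + 2) → ι) (i : Fin (n + 2)) : tm U K ⟶ tm U (K ∘ i.succAbove) :=
  Pi.lift fun k => Pi.π (U ∘ K) (i.succAbove k)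

theorem comp_δ {n : ℕ} (K : Fin (n + 2) → ι) (i : Fin (n + 2)) (x : E.obj ((cos U P).obj ⦋n⦌)) :
    comp E U P K (E.map ((cos U P).δ i) x) = res E U P (face U K i) (comp E U P (K ∘ i.succAbove) x) := by
  have e : (cos U P).δ i ≫ cp U P K = cp U P (K ∘ i.succAbove) ≫ P.map (face U K i).op := Pi.lift_π _ _
  have := ConcreteCategory.congr_hom (congrArg E.map e) x
  simpa only [E.map_comp, ConcreteCategory.comp_apply] using this

theorem sum_apply {A B : AddCommGrpCat.{w}} {κ : Type*} (s : Finset κ) (f : κ → (A ⟶ B)) (x : A) :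
    (∑ i ∈ s, f i) x = ∑ i ∈ s, f i x := by
  classical
  induction s using Finset.induction_on with
  | empty => rfl
  | @insert a s h ih => rw [Finset.sum_insert h, Finset.sum_insert h, ← ih]; rfl

abbrev cx : CochainComplex A ℕ := (cechComplexFunctor U).obj P

theorem comp_d {n : ℕ} (K : Fin (n + 2) → ι) (x : E.obj ((cos U P).obj ⦋n⦌)) :
    comp E U P K (E.map ((cx U P).d n (n + 1)) x) =
      ∑ i : Fin (n + 2), (-1 : ℤ) ^ (i : ℕ) • res E U P (face U K i) (comp E U P (K ∘ i.succAbove) x) := by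
  have hd : (cx U P).d n (n + 1) = AlternatingCofaceMapComplex.objD (cos U P) n :=
    CochainComplex.of_d (fun m => (cos U P).obj ⦋m⦌) (AlternatingCofaceMapComplex.objD (cos U P)) n
  rw [hd]
  show comp E U P K (E.map (∑ i : Fin (n + 2), (-1 : ℤ) ^ (i : ℕ) • (cos U P).δ i) x) = _
  rw [E.map_sum]
  simp only [Functor.map_zsmul]
  rw [sum_apply]
  simp only [comp, map_sum]
  refine Finset.sum_congr rfl fun i _ => ?_
  erw [map_zsmul]
  exact congrArg _ (comp_δ E U P K i x)

variable (c : ι)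

/-- the projection forgetting `c`. -/
abbrev proj {n : ℕ} (J : Fin n → ι) : tm U (Fin.cons c J) ⟶ tm U J :=
  Pi.lift fun k => Pi.π (U ∘ (Fin.cons c J : Fin (n + 1) → ι)) k.succ

variable (hinv : ∀ {n : ℕ} (J : Fin (n + 1) → ι), Function.Bijective (res E U P (proj U c J)))
include hinv

theorem exact_pos (n : ℕ) (x : E.obj ((cos U P).obj ⦋n + 1⦌))
    (hx : E.map ((cx U P).d (n + 1) (n + 2)) x = 0) :
    ∃ y : E.obj ((cos U P).obj ⦋n⦌), E.map ((cx U P).d n (n + 1)) y = x := by
  let r : ∀ {m : ℕ} (J : Fin (m + 1) → ι), E.obj (P.obj (op (tm U (Fin.cons c J)))) → E.obj (fam U P m J) :=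
    fun {m} J => Function.surjInv (hinv J).2
  have hr : ∀ {m : ℕ} (J : Fin (m + 1) → ι) z, res E U P (proj U c J) (r J z) = z :=
    fun {m} J z => Function.surjInv_eq (hinv J).2 z
  obtain ⟨y, hy⟩ := exists_comp E U P (fun J : Fin (n + 1) → ι => r J (comp E U P (Fin.cons c J) x))
  refine ⟨y, comp_ext E U P fun J => (hinv J).1 ?_⟩
  have h0 : comp E U P (Fin.cons c J) (E.map ((cx U P).d (n + 1) (n + 2)) x) = 0 := by
    rw [hx]; exact map_zero _
  rw [comp_d, Fin.sum_univ_succ] at h0
  rw [comp_d, map_sum]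
  have e0 : res E U P (face U (Fin.cons c J) 0)
      (comp E U P ((Fin.cons c J : Fin (n + 3) → ι) ∘ (0 : Fin (n + 3)).succAbove) x) =
      res E U P (proj U c J) (comp E U P J x) :=
    res_comp_congr E U P (funext fun k => by simp [Fin.succAbove_zero]) _ _ x
  rw [Fin.val_zero, pow_zero, one_smul, e0] at h0
  rw [eq_neg_of_add_eq_zero_left h0, ← Finset.sum_neg_distrib]
  refine Finset.sum_congr rfl fun i _ => ?_
  rw [map_zsmul, hy, Fin.val_succ, pow_succ, mul_neg_one, neg_smul, neg_neg]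
  congr 1
  have ec : (Fin.cons c (J ∘ i.succAbove) : Fin (n + 2) → ι) = (Fin.cons c J : Fin (n + 3) → ι) ∘ i.succ.succAbove := by
    funext k
    refine Fin.cases ?_ (fun k => ?_) k <;> simp
  let g : tm U (Fin.cons c J) ⟶ tm U (Fin.cons c (J ∘ i.succAbove)) :=
    face U (Fin.cons c J) i.succ ≫ eqToHom (congrArg (fun K => tm U K) ec.symm)
  calc res E U P (proj U c J) (res E U P (face U J i) (r (J ∘ i.succAbove) (comp E U P (Fin.cons c (J ∘ i.succAbove)) x)))
      = res E U P (proj U c J ≫ face U J i) (r (J ∘ i.succAbove) (comp E U P (Fin.cons c (J ∘ i.succAbove)) x)) :=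
        res_res E U P _ _ _ _
    _ = res E U P g (res E U P (proj U c (J ∘ i.succAbove)) (r (J ∘ i.succAbove) (comp E U P (Fin.cons c (J ∘ i.succAbove)) x))) :=
        (res_res E U P _ _ _ _).symm
    _ = res E U P g (comp E U P (Fin.cons c (J ∘ i.succAbove)) x) := by rw [hr]
    _ = _ := res_comp_congr E U P ec _ _ x

variable {F₀ : A} (a : ∀ J : Fin 1 → ι, F₀ ⟶ fam U P 0 J)
  (ha : ∀ (K : Fin 2 → ι) (i j : Fin 2),
    a (K ∘ i.succAbove) ≫ P.map (face U K i).op = a (K ∘ j.succAbove) ≫ P.map (face U K j).op)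
  (hac : Function.Bijective (E.map (a (fun _ => c))))
include ha hac

theorem exact_zero (x : E.obj ((cos U P).obj ⦋0⦌)) (hx : E.map ((cx U P).d 0 1) x = 0) :
    ∃ y : E.obj F₀, ∀ J, E.map (a J) y = comp E U P J x := by
  obtain ⟨y, hy⟩ := hac.2 (comp E U P (fun _ => c) x)
  refine ⟨y, fun J => (hinv J).1 ?_⟩
  let K : Fin 2 → ι := Fin.cons c J
  have h0 : comp E U P K (E.map ((cx U P).d 0 1) x) = 0 := by rw [hx]; exact map_zero _
  rw [comp_d, Fin.sum_univ_two] at h0
  simp only [Fin.val_zero, Fin.val_one, pow_zero, pow_one, one_smul, neg_smul] at h0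
  rw [← sub_eq_add_neg, sub_eq_zero] at h0
  have hJ : K ∘ (0 : Fin 2).succAbove = J := funext fun k => by simp [K, Fin.succAbove_zero]
  have hc : K ∘ (1 : Fin 2).succAbove = fun _ => c := funext fun k => by
    fin_cases k; simp [K]
  have e1 : ∀ (J' : Fin 1 → ι) (_ : J' = J) (f : tm U K ⟶ tm U J'),
      res E U P (proj U c J) (comp E U P J x) = res E U P f (comp E U P J' x) ∧
      res E U P (proj U c J) (E.map (a J) y) = res E U P f (E.map (a J') y) := by
    rintro J' rfl f
    rw [Subsingleton.elim f (proj U c J')]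
    exact ⟨rfl, rfl⟩
  have e2 : ∀ (J' : Fin 1 → ι) (_ : J' = fun _ => c) (f : tm U K ⟶ tm U J'),
      res E U P f (E.map (a J') y) = res E U P f (comp E U P J' x) := by
    rintro J' rfl f
    rw [hy]
  obtain ⟨e1a, e1b⟩ := e1 _ hJ (face U K 0)
  rw [e1a, e1b, h0, ← e2 _ hc]
  have := ConcreteCategory.congr_hom (congrArg E.map (ha K 0 1)) y
  simpa only [E.map_comp, ConcreteCategory.comp_apply] using this

end CechRes8
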